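import Mathlib
import Cfsg.Agent.Lib.SL2.Presentation
import Cfsg.Agent.Lib.BoundedPresentation.SLPres
import Cfsg.Agent.Lib.BoundedPresentation.SLOrder
import Cfsg.Agent.Lib.LinGroup.Generation
import Cfsg.Agent.Lib.LinGroup.Order

/-!
A group generated by elements with the Steinberg relations of type `A`, of rank at least two, over a
finite field and mapping to `SL`, maps isomorphically.
-/

set_option autoImplicit false

namespace Cfsg.Agent.Lib.SteinbergSL

open Cfsg.Agent.Lib.SL2 Cfsg.Agent.Lib.BoundedPresentation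
open Cfsg.Agent.Lib.SpFourPresentation (Scales IsFam)

/-- Generators with the Steinberg relations, and a map to `SL`. -/
structure StData (n : ℕ) (F : Type*) [Field F] (G : Type*) [Group G] where
  /-- root elements -/
  X : Fin n → Fin n → F → G
  /-- the map to the matrices -/
  φ : G →* Matrix.SpecialLinearGroup (Fin n) F
  three : 3 ≤ n
  add : ∀ {a b}, a ≠ b → ∀ s t, X a b s * X a b t = X a b (s + t)
  comm : ∀ {a b c d}, a ≠ b → c ≠ d → a ≠ d → b ≠ c → ∀ s t, Commute (X a b s) (X c d t)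
  brak : ∀ {a b c}, a ≠ b → b ≠ c → a ≠ c → ∀ s t,
    X a b s * X b c t * (X a b s)⁻¹ * (X b c t)⁻¹ = X a c (s * t)
  map_X : ∀ {a b}, a ≠ b → ∀ t, (φ (X a b t) : Matrix (Fin n) (Fin n) F) = 1 + Matrix.single a b t
  gen : ∀ S : Subgroup G, (∀ a b, a ≠ b → ∀ t, X a b t ∈ S) → S = ⊤

namespace StData

variable {n : ℕ} {F : Type*} [Field F] {G : Type*} [Group G] (D : StData n F G)

/-- Weyl elements. -/
def W (a b : Fin n) (t : F) : G := D.X a b t * D.X b a (-t⁻¹) * D.X a b t

/-- Torus elements. -/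
def H (a b : Fin n) (t : F) : G := D.W a b t * (D.W a b 1)⁻¹

include D in
theorem exists_third (a b : Fin n) : ∃ c, c ≠ a ∧ c ≠ b := by


  by_contra h
  push_neg at h
  have : (Finset.univ : Finset (Fin n)) ⊆ {a, b} := fun c _ => by
    by_cases hc : c = a
    · simp [hc]
    · simp [h c hc]
  have := Finset.card_le_card this
  have h2 : ({a, b} : Finset (Fin n)).card ≤ 2 := Finset.card_le_two
  have := D.three
  simp at *
  omega

theorem X_zero {a b : Fin n} (h : a ≠ b) : D.X a b 0 = 1 := by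
  have := D.add h 0 0
  rwa [add_zero, mul_eq_left] at this

theorem X_inv {a b : Fin n} (h : a ≠ b) (t : F) : (D.X a b t)⁻¹ = D.X a b (-t) :=
  inv_eq_of_mul_eq_one_right (by rw [D.add h, add_neg_cancel, D.X_zero h])

theorem cm (x y z : G) : x * (y * z) * x⁻¹ = (x * y * x⁻¹) * (x * z * x⁻¹) := by group

theorem fixc {x y : G} (h : Commute x y) : x * y * x⁻¹ = y := by rw [h.eq, mul_inv_cancel_right]

theorem fwd {a b c : Fin n} (hab : a ≠ b) (hbc : b ≠ c) (hac : a ≠ c) (s t : F) :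
    D.X a b s * D.X b c t * (D.X a b s)⁻¹ = D.X a c (s * t) * D.X b c t := by
  rw [← D.brak hab hbc hac s t]; group

theorem bwd {a b c : Fin n} (hab : a ≠ b) (hbc : b ≠ c) (hac : a ≠ c) (s t : F) :
    D.X b c t * D.X a b s * (D.X b c t)⁻¹ = D.X a c (-(s * t)) * D.X a b s := by
  rw [← D.X_inv hac, ← D.brak hab hbc hac s t]; group

theorem W_conj (a b : Fin n) (t : F) (z : G) : D.W a b t * z * (D.W a b t)⁻¹ =
    D.X a b t * (D.X b a (-t⁻¹) * (D.X a b t * z * (D.X a b t)⁻¹) * (D.X b a (-t⁻¹))⁻¹) * (D.X a b t)⁻¹ := by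
  rw [W]; group

theorem W_first {a b c : Fin n} (hab : a ≠ b) (hac : a ≠ c) (hbc : b ≠ c) {t : F} (ht : t ≠ 0) (s : F) :
    D.W a b t * D.X a c s * (D.W a b t)⁻¹ = D.X b c (-(s / t)) := by
  rw [W_conj, fixc (D.comm hab hac hac hab.symm t s), D.fwd hab.symm hac hbc, cm,
    fixc (D.comm hab hac hac hab.symm t s), D.fwd hab hbc hac, show t * (-t⁻¹ * s) = -s by field_simp,
    mul_assoc, (D.comm hbc hac hbc hac.symm _ _).eq, ← mul_assoc, D.add hac, neg_add_cancel,
    D.X_zero hac, one_mul, show -t⁻¹ * s = -(s / t) by field_simp]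

theorem W_second {a b c : Fin n} (hab : a ≠ b) (hac : a ≠ c) (hbc : b ≠ c) {t : F} (ht : t ≠ 0) (s : F) :
    D.W a b t * D.X c b s * (D.W a b t)⁻¹ = D.X c a (s / t) := by
  rw [W_conj, fixc (D.comm hab hbc.symm hab hbc t s), D.bwd hbc.symm hab.symm hac.symm, cm,
    fixc (D.comm hab hbc.symm hab hbc t s), D.bwd hac.symm hab hbc.symm, mul_assoc,
    (D.comm hac.symm hbc.symm hbc.symm hac _ _).eq, ← mul_assoc, D.add hbc.symm,
    show -(-(s * -t⁻¹) * t) + s = 0 by field_simp; ring, D.X_zero hbc.symm, one_mul,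
    show -(s * -t⁻¹) = s / t by field_simp]

theorem W_rel {a b : Fin n} (hab : a ≠ b) {t : F} (ht : t ≠ 0) (u : F) :
    D.W a b t * D.X a b u * (D.W a b t)⁻¹ = D.X b a (-(t⁻¹ ^ 2 * u)) := by
  obtain ⟨c, hca, hcb⟩ := D.exists_third a b
  have key : D.X a b u = D.X a c u * D.X c b 1 * (D.X a c u)⁻¹ * (D.X c b 1)⁻¹ := by
    rw [D.brak hca.symm hcb hab, mul_one]
  rw [key, show ∀ g x y : G, g * (x * y * x⁻¹ * y⁻¹) * g⁻¹ =
    (g * x * g⁻¹) * (g * y * g⁻¹) * (g * x * g⁻¹)⁻¹ * (g * y * g⁻¹)⁻¹ from fun g x y => by group,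
    D.W_first hab hca.symm hcb.symm ht, D.W_second hab hca.symm hcb.symm ht,
    D.brak hcb.symm hca hab.symm]
  congr 1
  field_simp

/-! ### The root `SL₂` -/

/-- The subgroup of a pair. -/
def pair (a b : Fin n) : Subgroup G := Subgroup.closure (Set.range (D.X a b) ∪ Set.range (D.X b a))

theorem X_mem (a b : Fin n) (t : F) : D.X a b t ∈ D.pair a b := Subgroup.subset_closure (Or.inl ⟨t, rfl⟩)
theorem X_mem' (a b : Fin n) (t : F) : D.X b a t ∈ D.pair a b := Subgroup.subset_closure (Or.inr ⟨t, rfl⟩)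

theorem emb_injective {a b : Fin n} (h : a ≠ b) : Function.Injective (SLStd.emb (F := F) h) := by
  intro g g' e
  have key : ∀ g : SLtwo F, SLStd.prj F ![a, b] * (SLStd.emb h g : Matrix (Fin n) (Fin n) F) *
      SLStd.inc F ![a, b] = g.1 := fun g => by
    rw [SLStd.emb_coe, SLStd.embMat, Matrix.mul_add, Matrix.mul_one, Matrix.add_mul,
      SLStd.prj_inc (SLStd.inj_pair h)]
    simp only [← Matrix.mul_assoc, SLStd.prj_inc (SLStd.inj_pair h), Matrix.one_mul]
    rw [Matrix.mul_assoc, SLStd.prj_inc (SLStd.inj_pair h), Matrix.mul_one, add_sub_cancel]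
  apply Subtype.ext
  rw [← key g, ← key g', e]

theorem φ_upper {a b : Fin n} (h : a ≠ b) (t : F) : D.φ (D.X a b t) = SLStd.emb h (upper t) :=
  Subtype.ext (by rw [D.map_X h, SLStd.emb_upper h])

theorem φ_lower {a b : Fin n} (h : a ≠ b) (t : F) : D.φ (D.X b a t) = SLStd.emb h (lower t) :=
  Subtype.ext (by rw [D.map_X h.symm, SLStd.emb_lower h])

theorem φ_pair {a b : Fin n} (h : a ≠ b) (g : D.pair a b) :
    D.φ g ∈ (SLStd.emb (F := F) h).range := by
  have : D.pair a b ≤ (SLStd.emb (F := F) h).range.comap D.φ := by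
    rw [pair, Subgroup.closure_le]
    rintro x (⟨t, rfl⟩ | ⟨t, rfl⟩)
    · exact ⟨upper t, (D.φ_upper h t).symm⟩
    · exact ⟨lower t, (D.φ_lower h t).symm⟩
  exact this g.2

/-- The map to `SL₂`. -/
noncomputable def proj {a b : Fin n} (h : a ≠ b) : D.pair a b →* SLtwo F :=
  (MonoidHom.ofInjective (emb_injective h)).symm.toMonoidHom.comp
    ((D.φ.comp (D.pair a b).subtype).codRestrict _ (D.φ_pair h))

theorem proj_eq {a b : Fin n} (h : a ≠ b) (g : D.pair a b) (m : SLtwo F)
    (e : D.φ g = SLStd.emb h m) : D.proj h g = m := by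
  apply (MonoidHom.ofInjective (emb_injective h)).injective
  rw [proj, MonoidHom.comp_apply, MulEquiv.coe_toMonoidHom, MulEquiv.apply_symm_apply]
  exact Subtype.ext e

/-- The rank one data. -/
noncomputable def rankOne {a b : Fin n} (h : a ≠ b) : SteinbergData F (D.pair a b) where
  x t := ⟨D.X a b t, D.X_mem a b t⟩
  y t := ⟨D.X b a t, D.X_mem' a b t⟩
  π := D.proj h
  x_add s t := Subtype.ext (D.add h s t)
  y_add s t := Subtype.ext (D.add h.symm s t)
  rel t u ht := Subtype.ext (D.W_rel h ht u)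
  π_x t := D.proj_eq h _ _ (D.φ_upper h t)
  π_y t := D.proj_eq h _ _ (D.φ_lower h t)
  gen := by
    have := Subgroup.closure_closure_coe_preimage (k := Set.range (D.X a b) ∪ Set.range (D.X b a))
    refine Eq.trans ?_ this
    refine congrArg Subgroup.closure ?_
    ext ⟨g, hg⟩
    simp only [Set.mem_union, Set.mem_range, Subtype.ext_iff]
    exact Iff.rfl

theorem proj_bijective [Finite F] {a b : Fin n} (h : a ≠ b) : Function.Bijective (D.proj h) := by
  refine ⟨(D.rankOne h).π_injective, MonoidHom.range_eq_top.mp (LinGroup.eq_top_of_transvection_mem _ ?_)⟩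
  intro i j hij c
  fin_cases i <;> fin_cases j
  · exact absurd rfl hij
  · exact ⟨(D.rankOne h).x c, ((D.rankOne h).π_x c).trans
      (ext_entries (by simp [LinGroup.coe_transvection, Matrix.transvection])
        (by simp [LinGroup.coe_transvection, Matrix.transvection])
        (by simp [LinGroup.coe_transvection, Matrix.transvection])
        (by simp [LinGroup.coe_transvection, Matrix.transvection]))⟩
  · exact ⟨(D.rankOne h).y c, ((D.rankOne h).π_y c).trans
      (ext_entries (by simp [LinGroup.coe_transvection, Matrix.transvection])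
        (by simp [LinGroup.coe_transvection, Matrix.transvection])
        (by simp [LinGroup.coe_transvection, Matrix.transvection])
        (by simp [LinGroup.coe_transvection, Matrix.transvection]))⟩
  · exact absurd rfl hij

open Classical in
/-- The root `SL₂`. -/
noncomputable def ψ [Finite F] (a b : Fin n) : SLtwo F →* G :=
  if h : a = b then 1 else
    (D.pair a b).subtype.comp (MulEquiv.ofBijective (D.proj h) (D.proj_bijective h)).symm.toMonoidHom

theorem ψ_upper [Finite F] {a b : Fin n} (h : a ≠ b) (t : F) : D.ψ a b (upper t) = D.X a b t := by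
  rw [ψ, dif_neg h, ← (D.rankOne h).π_x t]
  exact congrArg Subtype.val
    ((MulEquiv.ofBijective (D.proj h) (D.proj_bijective h)).symm_apply_apply _)

theorem ψ_lower [Finite F] {a b : Fin n} (h : a ≠ b) (t : F) : D.ψ a b (lower t) = D.X b a t := by
  rw [ψ, dif_neg h, ← (D.rankOne h).π_y t]
  exact congrArg Subtype.val
    ((MulEquiv.ofBijective (D.proj h) (D.proj_bijective h)).symm_apply_apply _)

theorem ψ_W [Finite F] {a b : Fin n} (h : a ≠ b) (t : F) :
    D.ψ a b (upper t * lower (-t⁻¹) * upper t) = D.W a b t := by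
  rw [map_mul, map_mul, D.ψ_upper h, D.ψ_lower h]; rfl

theorem ψ_diag [Finite F] {a b : Fin n} (h : a ≠ b) (u : Fˣ) :
    D.ψ a b (diag u) = D.H a b u := by
  have e : diag u = (upper (u : F) * lower (-(u : F)⁻¹) * upper (u : F)) *
      (upper (1 : F) * lower (-(1 : F)⁻¹) * upper 1)⁻¹ := by
    have := u.ne_zero
    rw [eq_mul_inv_iff_mul_eq]
    apply ext_entries <;> simp [diag, mul_00, mul_01, mul_10, mul_11, ofEntries_coe] <;> field_simp
  rw [H, ← D.ψ_W h, ← D.ψ_W h, e, map_mul, map_inv]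

theorem W_inv {a b : Fin n} (h : a ≠ b) (t : F) : (D.W a b t)⁻¹ = D.W a b (-t) := by
  simp only [W, mul_inv_rev, D.X_inv h, D.X_inv h.symm, neg_neg, inv_neg, mul_assoc]

theorem W_flip [Finite F] {a b : Fin n} (h : a ≠ b) {t : F} (ht : t ≠ 0) :
    D.W b a t = D.W a b (-t⁻¹) := by
  rw [← D.ψ_W h]
  show D.X b a t * D.X a b (-t⁻¹) * D.X b a t = _
  rw [← D.ψ_upper h, ← D.ψ_lower h, ← map_mul, ← map_mul]
  congr 1
  apply ext_entries <;> simp [mul_00, mul_01, mul_10, mul_11] <;> field_simp <;> simp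

/-- The signs of a Weyl element. -/
def mu (a b : Fin n) (t : F) : Fin n → F := fun i => if i = a then -t⁻¹ else if i = b then t else 1

theorem W_X [Finite F] {a b c d : Fin n} (hab : a ≠ b) (hcd : c ≠ d) {t : F} (ht : t ≠ 0) (s : F) :
    D.W a b t * D.X c d s * (D.W a b t)⁻¹ =
      D.X (Equiv.swap a b c) (Equiv.swap a b d) (mu a b t c / mu a b t d * s) := by
  have hf : -t⁻¹ ≠ 0 := neg_ne_zero.2 (inv_ne_zero ht)
  by_cases hca : c = a
  · subst hca
    by_cases hdb : d = b
    · subst hdb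
      rw [Equiv.swap_apply_left, Equiv.swap_apply_right, D.W_rel hcd ht]
      congr 1
      simp [mu, hcd.symm]; field_simp
    · rw [Equiv.swap_apply_left, Equiv.swap_apply_of_ne_of_ne hcd.symm hdb,
        D.W_first hab hcd (Ne.symm hdb) ht]
      congr 1
      simp [mu, hcd.symm, hdb]; field_simp
  by_cases hcb : c = b
  · subst hcb
    by_cases hda : d = a
    · subst hda
      rw [Equiv.swap_apply_left, Equiv.swap_apply_right, D.W_flip hab.symm ht,
        D.W_rel hcd hf]
      congr 1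
      simp [mu, hab.symm]; field_simp
    · rw [Equiv.swap_apply_right, Equiv.swap_apply_of_ne_of_ne hda hcd.symm,
        D.W_flip hab.symm ht,
        D.W_first hab.symm hcd (Ne.symm hda) hf]
      congr 1
      simp [mu, hab.symm, hda, hcd.symm]; field_simp
  by_cases hdb : d = b
  · subst hdb
    rw [Equiv.swap_apply_of_ne_of_ne hca hcb, Equiv.swap_apply_right,
      D.W_second hab (Ne.symm hca) (Ne.symm hcb) ht]
    congr 1
    simp [mu, hca, hcb, hab.symm]; field_simp
  by_cases hda : d = a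
  · subst hda
    rw [Equiv.swap_apply_of_ne_of_ne hca hcb, Equiv.swap_apply_left,
      D.W_flip hab.symm ht,
      D.W_second hab.symm (Ne.symm hcb) (Ne.symm hca) hf]
    congr 1
    simp [mu, hca, hcb]; field_simp
  rw [Equiv.swap_apply_of_ne_of_ne hca hcb, Equiv.swap_apply_of_ne_of_ne hda hdb]
  have h1 : ∀ u, Commute (D.X a b u) (D.X c d s) :=
    fun u => D.comm hab hcd (Ne.symm hda) (Ne.symm hcb) u s
  have h2 : ∀ u, Commute (D.X b a u) (D.X c d s) :=
    fun u => D.comm hab.symm hcd (Ne.symm hdb) (Ne.symm hca) u s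
  rw [W, fixc (((h1 t).mul_left (h2 _)).mul_left (h1 t))]
  congr 1
  simp [mu, hca, hcb, hda, hdb]

theorem H_X [Finite F] {a b c d : Fin n} (hab : a ≠ b) (hcd : c ≠ d) (u : Fˣ) (s : F) :
    D.H a b u * D.X c d s * (D.H a b u)⁻¹ =
      D.X c d (SLStd.dv a b u c / SLStd.dv a b u d * s) := by
  have hne := (Equiv.swap a b).injective.ne hcd
  rw [H, D.W_inv hab, show ∀ g h z : G, g * h * z * (g * h)⁻¹ = g * (h * z * h⁻¹) * g⁻¹ from
    fun g h z => by group, D.W_X hab hcd (by norm_num), D.W_X hab hne u.ne_zero, Equiv.swap_apply_self,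
    Equiv.swap_apply_self]
  congr 1
  have key : ∀ i : Fin n, mu a b (u : F) (Equiv.swap a b i) * mu a b (-1) i = SLStd.dv a b u i := by
    intro i
    by_cases hia : i = a
    · subst hia; simp [mu, SLStd.dv, hab.symm]
    by_cases hib : i = b
    · subst hib; simp [mu, SLStd.dv, hab.symm]
    simp [mu, SLStd.dv, hia, hib, Equiv.swap_apply_of_ne_of_ne]
  rw [← key c, ← key d]
  ring

theorem conj_H [Finite F] {c d c' d' : Fin n} (h' : c' ≠ d') (g : G) (e : Fˣ)
    (h1 : ∀ s, g * D.X c d s * g⁻¹ = D.X c' d' ((e : F) * s))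
    (h2 : ∀ s, g * D.X d c s * g⁻¹ = D.X d' c' ((e : F)⁻¹ * s)) (v : Fˣ) :
    g * D.H c d v * g⁻¹ = D.H c' d' v := by
  have hW : ∀ v : F, g * D.W c d v * g⁻¹ = D.W c' d' ((e : F) * v) := fun v => by
    rw [W, show ∀ x y z : G, g * (x * y * z) * g⁻¹ = (g * x * g⁻¹) * (g * y * g⁻¹) * (g * z * g⁻¹) from
      fun x y z => by group, h1, h2, W, mul_inv, mul_neg]
  have e1 : g * D.H c d v * g⁻¹ = D.H c' d' ((e * v : Fˣ) : F) * (D.H c' d' (e : F))⁻¹ := by
    rw [H, show ∀ x y : G, g * (x * y⁻¹) * g⁻¹ = (g * x * g⁻¹) * (g * y * g⁻¹)⁻¹ from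
      fun x y => by group, hW, hW, mul_one, H, H, Units.val_mul]
    group
  rw [e1, ← D.ψ_diag h', ← D.ψ_diag h', ← D.ψ_diag h', ← map_inv, ← map_mul]
  congr 1
  rw [show diag (e * v) = diag e * diag v from map_mul diagHom e v,
    show diag e * diag v = diag v * diag e from by
      rw [show diag e * diag v = diag (e * v) from (map_mul diagHom e v).symm,
        show diag v * diag e = diag (v * e) from (map_mul diagHom v e).symm, mul_comm],
    mul_inv_cancel_right]

theorem dv_ne (a b : Fin n) (u : Fˣ) (i : Fin n) : SLStd.dv a b u i ≠ 0 := by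
  unfold SLStd.dv; split_ifs <;> simp

theorem H_comm [Finite F] {a b c d : Fin n} (hab : a ≠ b) (hcd : c ≠ d) (u v : Fˣ) :
    Commute (D.H a b u) (D.H c d v) := by
  refine mul_inv_eq_iff_eq_mul.mp (D.conj_H hcd _
    (Units.mk0 _ (div_ne_zero (dv_ne a b u c) (dv_ne a b u d)))
    (fun s => by rw [D.H_X hab hcd]; rfl) (fun s => ?_) v)
  rw [D.H_X hab hcd.symm]
  congr 1
  simp

theorem mu_ne {a b : Fin n} {t : F} (ht : t ≠ 0) (i : Fin n) : mu a b t i ≠ 0 := by
  unfold mu; split_ifs <;> simp [ht]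

theorem W_H [Finite F] {a b c d : Fin n} (hab : a ≠ b) (hcd : c ≠ d) (v : Fˣ) :
    D.W a b 1 * D.H c d v * (D.W a b 1)⁻¹ = D.H (Equiv.swap a b c) (Equiv.swap a b d) v := by
  refine D.conj_H ((Equiv.swap a b).injective.ne hcd) _
    (Units.mk0 _ (div_ne_zero (mu_ne (a := a) (b := b) one_ne_zero c) (mu_ne one_ne_zero d)))
    (fun s => by rw [D.W_X hab hcd one_ne_zero]; rfl) (fun s => ?_) v
  rw [D.W_X hab hcd.symm one_ne_zero]
  congr 1
  simp

theorem H_inv [Finite F] {a b : Fin n} (h : a ≠ b) (u : Fˣ) :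
    D.H a b ((u⁻¹ : Fˣ) : F) = (D.H a b u)⁻¹ := by
  rw [← D.ψ_diag h, ← D.ψ_diag h, show diag u⁻¹ = (diag u)⁻¹ from map_inv diagHom u, map_inv]

theorem H_flip [Finite F] {a b : Fin n} (h : a ≠ b) (u : Fˣ) :
    D.H b a u = (D.H a b u)⁻¹ := by
  rw [← D.H_inv h, H, D.W_flip h u.ne_zero, D.W_flip h one_ne_zero]
  rw [← D.ψ_diag h, ← D.ψ_W h, ← D.ψ_W h, ← map_inv, ← map_mul]
  congr 1
  have := u.ne_zero
  rw [mul_inv_eq_iff_eq_mul]
  apply ext_entries <;> simp [diag, mul_00, mul_01, mul_10, mul_11, ofEntries_coe] <;> field_simp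

theorem H_sum [Finite F] {a b c : Fin n} (hab : a ≠ b) (hbc : b ≠ c) (hac : a ≠ c) (u : Fˣ) :
    D.H a c u = D.H a b u * D.H b c u := by
  have h1 : D.W b c 1 * D.H a b u * (D.W b c 1)⁻¹ = D.H a c u := by
    rw [D.W_H hbc hab, Equiv.swap_apply_of_ne_of_ne hab hac, Equiv.swap_apply_left]
  have e : ∀ {i j}, i ≠ j → D.H a b u * D.X i j (1 : F) * (D.H a b u)⁻¹ = _ := fun h => D.H_X hab h u 1
  have hd : SLStd.dv a b u b / SLStd.dv a b u c = (u : F)⁻¹ := by
    simp [SLStd.dv, hab.symm, hac.symm, hbc.symm]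
  have hd' : SLStd.dv a b u c / SLStd.dv a b u b = (u : F) := by
    simp [SLStd.dv, hab.symm, hac.symm, hbc.symm]
  have hW : D.H a b u * D.W b c 1 * (D.H a b u)⁻¹ = D.W b c ((u : F)⁻¹) := by
    rw [W, show ∀ g x y z : G, g * (x * y * z) * g⁻¹ = (g * x * g⁻¹) * (g * y * g⁻¹) * (g * z * g⁻¹) from
      fun g x y z => by group, D.H_X hab hbc, D.H_X hab hbc.symm, hd, hd', mul_one, W, inv_inv,
      inv_one, mul_neg, mul_one]
  have h3 : D.W b c ((u : F)⁻¹) = D.H b c ((u⁻¹ : Fˣ) : F) * D.W b c 1 := by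
    rw [H, inv_mul_cancel_right, Units.val_inv_eq_inv_val]
  calc D.H a c u = D.W b c 1 * (D.H a b u * D.W b c 1 * (D.H a b u)⁻¹)⁻¹ * D.H a b u := by
        rw [← h1]; group
    _ = D.H b c u * D.H a b u := by
        rw [hW, h3, mul_inv_rev, ← mul_assoc, mul_inv_cancel, one_mul, D.H_inv hbc, inv_inv]
    _ = _ := (D.H_comm hbc hab u u).eq

end StData

variable {F : Type*} [Field F] [Fintype F] {G : Type*} [Group G]

/-- The root `SL₂`s of a Steinberg datum. -/
noncomputable def StData.root {k : ℕ} (D : StData (k + 1) F G) (ω : Fˣ) : SLRoot k F G := ⟨D.ψ, ω⟩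

theorem StData.rels {k : ℕ} (D : StData (k + 1) F G) {ω : Fˣ}
    (hω : ∀ t : F, t ≠ 0 → ∃ m : ℕ, (ω : F) ^ m = t) : (D.root ω).Rels := by
  have hX : ∀ {a b}, a ≠ b → ∀ t, (D.root ω).X a b t = D.X a b t := fun h t => D.ψ_upper h t
  have hH : ∀ {a b}, a ≠ b → (D.root ω).h a b = D.H a b ω := fun h => D.ψ_diag h ω
  constructor
  · exact hω
  · intro a b h t; rw [hX h.symm]; exact D.ψ_lower h t
  · intro a b c d hab hcd hac had hbc hbd s t; rw [hX hab, hX hcd]; exact D.comm hab hcd had hbc s t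
  · intro a b c hab hac hbc s t; rw [hX hab, hX hac]; exact D.comm hab hac hac hab.symm s t
  · intro a b c hac hbc hab s t; rw [hX hac, hX hbc]; exact D.comm hac hbc hac hbc.symm s t
  · intro a b c hab hbc hac s t; rw [hX hab, hX hbc, hX hac]; exact D.brak hab hbc hac s t
  · intro a b c d hab hcd
    refine ⟨SLStd.dv a b ω c / SLStd.dv a b ω d, div_ne_zero (dv_ne a b ω c) (dv_ne a b ω d), fun t => ?_⟩
    rw [hX hcd, hX hcd, hH hab]
    exact D.H_X hab hcd ω t
  · intro a b c d hab hcd; rw [hH hab, hH hcd]; exact D.H_comm hab hcd ω ω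
  · intro a b h; rw [hH h, hH h.symm]; exact D.H_flip h ω
  · intro a b c hab hbc hac; rw [hH hac, hH hab, hH hbc]; exact D.H_sum hab hbc hac ω
  · intro a b c d hab hcd
    rw [hH hcd, hH ((Equiv.swap a b).injective.ne hcd)]
    have hw : (D.root ω).w a b = D.W a b 1 := by
      rw [← D.ψ_W hab]
      show D.ψ a b weyl = _
      congr 1
      apply ext_entries <;> simp [weyl, mul_00, mul_01, mul_10, mul_11, ofEntries_coe]
    rw [hw]
    exact D.W_H hab hcd ω

/-- The map to `SL` is an isomorphism. -/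
theorem StData.bijective {n : ℕ} (D : StData n F G) : Function.Bijective D.φ := by
  obtain ⟨k, rfl⟩ : ∃ k, n = k + 1 := ⟨n - 1, by have := D.three; omega⟩
  obtain ⟨ω, hω⟩ : IsCyclic Fˣ := inferInstance
  have R := D.rels (ω := ω) fun t ht => by
    obtain ⟨m, hm⟩ := mem_powers_iff_mem_zpowers.2 (hω (Units.mk0 t ht))
    exact ⟨m, by simpa using congrArg Units.val hm⟩
  obtain ⟨hfin, hcard⟩ := SLRoot.finite_and_card_le R fun S hS =>
    D.gen S fun a b h t => by rw [← D.ψ_upper h]; exact hS a b h t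
  have hsurj : Function.Surjective D.φ := MonoidHom.range_eq_top.mp
    (LinGroup.eq_top_of_transvection_mem _ fun i j hij c => ⟨D.X i j c, Subtype.ext (by
      rw [D.map_X hij, LinGroup.coe_transvection hij]; rfl)⟩)
  have hc : slBound (Fintype.card F) k = Nat.card (Matrix.SpecialLinearGroup (Fin (k + 1)) F) := by
    have hq : 0 < Fintype.card F - 1 := by have := Fintype.one_lt_card (α := F); omega
    refine Nat.eq_of_mul_eq_mul_left hq ?_
    rw [slBound_eq _ Fintype.card_pos, LinGroup.card_SL_mul _ (by omega)]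
  refine (Nat.bijective_iff_surjective_and_card D.φ).2 ⟨hsurj, le_antisymm (hcard.trans hc.le) ?_⟩
  exact Nat.card_le_card_of_surjective _ hsurj

end Cfsg.Agent.Lib.SteinbergSL
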